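import Cfsg.Agent.Lib.Helper97.C3.NORM
import Cfsg.Agent.Lib.Helper97.C3.STEP
import Cfsg.Agent.Lib.Helper97.C3.SPREAD
import Cfsg.Agent.Lib.Helper97.C3.RK1

/-!
# Ladder C3 (helper97) under a weaker hypothesis

`BigW K X`: the group `X` contains the `K`-transvections and the `K`-dilatations of norm one.
The files of this folder are verbatim copies of helper97's rungs MAXINT, TLAM, R3, R2Q3, AD2 with
`Big` replaced by `BigW` (their proofs only use `ktv_mem` and `kdil_mem`).
-/

set_option autoImplicit false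

namespace Cfsg.Agent.Lib.Helper17.C3W

open Module Cfsg.Agent.Lib.Helper97.C3

variable {F K V : Type*} [Field F] [Field K] [Algebra F K] [AddCommGroup V]
  [Module F V] [Module K V] [IsScalarTower F K V]

variable (K) in
/-- `X` contains all `K`-transvections and all `K`-dilatations of norm one. -/
def BigW (X : Subgroup (V ≃ₗ[F] V)) : Prop :=
  (∀ (f : V →ₗ[K] K) (x : V) (h : f x = 0), ktv F f x h ∈ X) ∧
  (∀ (f : V →ₗ[K] K) (x : V) (h : 1 + f x ≠ 0), Algebra.norm F (1 + f x) = 1 → kdil F f x h ∈ X)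

lemma ktv_memW {X : Subgroup (V ≃ₗ[F] V)} (hX : BigW K X) (f : V →ₗ[K] K) (x : V) (h : f x = 0) :
    ktv F f x h ∈ X := hX.1 f x h

lemma kdil_memW {X : Subgroup (V ≃ₗ[F] V)} (hX : BigW K X) (f : V →ₗ[K] K)
    (x : V) (h : 1 + f x ≠ 0) (hn : Algebra.norm F (1 + f x) = 1) : kdil F f x h ∈ X :=
  hX.2 f x h hn

end Cfsg.Agent.Lib.Helper17.C3W
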